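/-
A model of the Sylow 2-subgroup of the unitary group of degree five over the field of order four.
-/
import Cfsg.Agent.H29.F4

set_option autoImplicit false

noncomputable section

namespace Cfsg.Agent.U52

open Subgroup H29 H29.F4

/-- exclusive or -/
def bx (a b : Bool) : Bool := @Bool.rec (fun _ => Bool) b (@Bool.rec (fun _ => Bool) true false b) a
/-- and -/
def ba (a b : Bool) : Bool := @Bool.rec (fun _ => Bool) false b a
/-- or -/
def bo (a b : Bool) : Bool := @Bool.rec (fun _ => Bool) b true a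
/-- equality of bits -/
def be (a b : Bool) : Bool := @Bool.rec (fun _ => Bool) (@Bool.rec (fun _ => Bool) true false b) b a

/-- a table with four entries -/
def t4 {α : Type} (p q r s : α) (x : F4) : α := @F4.rec (fun _ => α) p q r s x
/-- sum -/
def fa (x y : F4) : F4 := t4 y (t4 i o v w y) (t4 w v o i y) (t4 v w i o y) x
/-- product -/
def fm (x y : F4) : F4 := t4 o y (t4 o w v i y) (t4 o v i w y) x
/-- conjugation -/
def fs (x : F4) : F4 := t4 o i v w x
/-- first coordinate -/
def re (x : F4) : Bool := t4 false true false true x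
/-- second coordinate -/
def im (x : F4) : Bool := t4 false false true true x
/-- norm -/
def nm (x : F4) : Bool := t4 false true true true x
/-- an element from its coordinates -/
def mk2 (x y : Bool) : F4 :=
  @Bool.rec (fun _ => F4) (@Bool.rec (fun _ => F4) o w y) (@Bool.rec (fun _ => F4) i v y) x
/-- equality test -/
def fe (x y : F4) : Bool := t4 (t4 true false false false y) (t4 false true false false y)
  (t4 false false true false y) (t4 false false false true y) x

theorem ba_eq : ∀ a b, ba a b = (a && b) := by decide +kernel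
theorem bo_eq : ∀ a b, bo a b = (a || b) := by decide +kernel
theorem be_iff : ∀ a b, be a b = true ↔ a = b := by decide +kernel
theorem fe_iff : ∀ a b, fe a b = true ↔ a = b := by decide +kernel
theorem fa_eq : ∀ a b, fa a b = a + b := by decide +kernel
theorem fm_eq : ∀ a b, fm a b = a * b := by decide +kernel

/-- both values pass -/
def al (p : Bool → Bool) : Bool := ba (p false) (p true)
/-- some value passes -/
def ex (p : Bool → Bool) : Bool := bo (p false) (p true)
/-- all four values pass -/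
def al4 (p : F4 → Bool) : Bool := ba (p o) (ba (p i) (ba (p w) (p v)))
/-- one of four values passes -/
def ex4 (p : F4 → Bool) : Bool := bo (p o) (bo (p i) (bo (p w) (p v)))

theorem al_iff (p : Bool → Bool) : al p = true ↔ ∀ b, p b = true := by simp [al, ba_eq]
theorem ex_iff (p : Bool → Bool) : ex p = true ↔ ∃ b, p b = true := by simp [ex, bo_eq]
theorem al4_iff (p : F4 → Bool) : al4 p = true ↔ ∀ b, p b = true := by
  simp only [al4, ba_eq, Bool.and_eq_true]
  exact ⟨fun h b => by cases b <;> tauto, fun h => ⟨h _, h _, h _, h _⟩⟩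
theorem ex4_iff (p : F4 → Bool) : ex4 p = true ↔ ∃ b, p b = true := by
  simp only [ex4, bo_eq, Bool.or_eq_true]
  exact ⟨by rintro (h | h | h | h) <;> exact ⟨_, h⟩, fun ⟨b, h⟩ => by cases b <;> tauto⟩

/-- the free entries above the diagonal -/
@[ext] structure T0 where
  a : F4
  e : F4
  b : F4
  c : F4
  f : Bool
  d : Bool

namespace T0

/-- equality test -/
def beq (x y : T0) : Bool := ba (fe x.a y.a) (ba (fe x.e y.e) (ba (fe x.b y.b) (ba (be x.f y.f)
  (ba (fe x.c y.c) (be x.d y.d)))))

theorem beq_iff (x y : T0) : beq x y = true ↔ x = y := by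
  simp only [beq, ba_eq, be_iff, fe_iff, Bool.and_eq_true, T0.ext_iff]; tauto

instance instDecEq : DecidableEq T0 := fun a b => decidable_of_iff _ (beq_iff a b)

instance instDecAll (p : T0 → Prop) [DecidablePred p] : Decidable (∀ a, p a) :=
  decidable_of_iff ((al4 fun e => al fun f => al4 fun a => al4 fun b => al4 fun c => al fun d =>
    decide (p ⟨a, e, b, c, f, d⟩)) = true)
    (by
      simp only [al_iff, al4_iff, decide_eq_true_iff]
      exact ⟨fun h _ => h .., fun h _ _ _ _ _ _ => h _⟩)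

instance instDecEx (p : T0 → Prop) [DecidablePred p] : Decidable (∃ a, p a) :=
  decidable_of_iff ((ex4 fun e => ex fun f => ex4 fun a => ex4 fun b => ex4 fun c => ex fun d =>
    decide (p ⟨a, e, b, c, f, d⟩)) = true)
    (by
      simp only [ex_iff, ex4_iff, decide_eq_true_iff]
      exact ⟨fun ⟨_, _, _, _, _, _, h⟩ => ⟨_, h⟩, fun ⟨_, h⟩ => ⟨_, _, _, _, _, _, h⟩⟩)

/-- the entry `(3, 5)` -/
def g35 (a e b : F4) : F4 := fa (fs b) (fm (fs e) (fs a))
/-- the entry `(2, 5)` -/
def g25 (a e b c : F4) (f : Bool) : F4 :=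
  fa (fa (fs c) (fm (fs (mk2 f (nm e))) (fs a))) (fm e (g35 a e b))
/-- the trace of the entry `(1, 5)` -/
def g15 (a e b c : F4) (f : Bool) : Bool := bx (nm (g35 a e b)) (im (fm (g25 a e b c f) a))

instance instMul : Mul T0 := ⟨fun x y =>
  @T0.rec (fun _ => T0) (fun a e b c f d =>
  @T0.rec (fun _ => T0) (fun a' e' b' c' f' d' =>
  ⟨fa a a', fa e e', fa (fa b b') (fm a e'),
   fa (fa (fa c c') (fm a (mk2 f' (nm e')))) (fm b (fs e')), bx (bx f f') (re (fm e (fs e'))),
   bx (bx d d') (re (fa (fa (fm a (g25 a' e' b' c' f')) (fm b (g35 a' e' b'))) (fm c (fs a'))))⟩)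
   y) x⟩

instance instOne : One T0 := ⟨⟨o, o, o, o, false, false⟩⟩

instance instInv : Inv T0 := ⟨fun x =>
  @T0.rec (fun _ => T0) (fun a e b c f d =>
  ⟨a, e, fa b (fm e a), fs (g25 a e b c f), bx f (nm e), bx d (g15 a e b c f)⟩) x⟩

/-- the entry `(2, 4)` -/
def F (x : T0) : F4 := mk2 x.f (nm x.e)
/-- the entry `(1, 5)` -/
def D (x : T0) : F4 := mk2 x.d (g15 x.a x.e x.b x.c x.f)
/-- the entry `(3, 5)` -/
def U (x : T0) : F4 := fs x.b + fs x.e * fs x.a
/-- the entry `(2, 5)` -/
def V (x : T0) : F4 := fs x.c + fs (F x) * fs x.a + x.e * U x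

/-- the matrix -/
def mat (x : T0) : Matrix (Fin 5) (Fin 5) F4 :=
  !![1, x.a, x.b, x.c, D x; 0, 1, x.e, F x, V x; 0, 0, 1, fs x.e, U x; 0, 0, 0, 1, fs x.a;
    0, 0, 0, 0, 1]

theorem fs_add : ∀ x y, fs (x + y) = fs x + fs y := by decide +kernel
theorem fs_mul : ∀ x y, fs (x * y) = fs x * fs y := by decide +kernel
theorem fs_fs : ∀ x, fs (fs x) = x := by decide +kernel
theorem two : (2 : F4) = 0 := rfl

theorem g35_eq (x : T0) : g35 x.a x.e x.b = U x := by simp only [g35, U, fa_eq, fm_eq]
theorem g25_eq (x : T0) : g25 x.a x.e x.b x.c x.f = V x := by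
  simp only [g25, V, F, g35_eq, fa_eq, fm_eq]

theorem fs_F (x : T0) : fs (F x) = F x + x.e * fs x.e :=
  (by decide +kernel : ∀ f e, fs (mk2 f (nm e)) = mk2 f (nm e) + e * fs e) _ _

theorem fs_D (x : T0) : fs (D x) = D x + (U x * fs (U x) + (V x * x.a + fs (V x * x.a))) := by
  rw [D, g15, g35_eq, g25_eq, fm_eq]
  exact (by decide +kernel : ∀ d u s, fs (mk2 d (bx (nm u) (im s))) =
    mk2 d (bx (nm u) (im s)) + (u * fs u + (s + fs s))) _ _ _

theorem mul_a (x y : T0) : (x * y).a = x.a + y.a := fa_eq _ _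
theorem mul_e (x y : T0) : (x * y).e = x.e + y.e := fa_eq _ _
theorem mul_b (x y : T0) : (x * y).b = x.b + y.b + x.a * y.e := by
  simp only [← fa_eq, ← fm_eq]; rfl
theorem mul_c (x y : T0) : (x * y).c = x.c + y.c + x.a * F y + x.b * fs y.e := by
  simp only [← fa_eq, ← fm_eq]; rfl
theorem mul_f (x y : T0) : (x * y).f = bx (bx x.f y.f) (re (x.e * fs y.e)) := by
  simp only [← fm_eq]; rfl
theorem mul_d (x y : T0) :
    (x * y).d = bx (bx x.d y.d) (re (x.a * V y + x.b * U y + x.c * fs y.a)) := by
  simp only [← fa_eq, ← fm_eq, ← g35_eq, ← g25_eq]; rfl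

theorem mul_F (x y : T0) : F (x * y) = F x + F y + x.e * fs y.e := by
  rw [F, mul_f, mul_e]
  exact (by decide +kernel : ∀ f f' e e', mk2 (bx (bx f f') (re (e * fs e'))) (nm (e + e')) =
    mk2 f (nm e) + mk2 f' (nm e') + e * fs e') _ _ _ _

theorem mul_U (x y : T0) : U (x * y) = U x + U y + fs x.e * fs y.a := by
  simp only [U, mul_a, mul_b, mul_e, fs_add, fs_mul]
  linear_combination (fs x.a * fs y.e) * two

theorem mul_V (x y : T0) : V (x * y) = V x + V y + x.e * U y + F x * fs y.a := by
  simp only [V, mul_U]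
  simp only [U, mul_a, mul_c, mul_e, mul_F, fs_add, fs_mul, fs_fs, fs_F]
  have := two
  grind

theorem mul_D (x y : T0) : D (x * y) = D x + D y + (x.a * V y + x.b * U y + x.c * fs y.a) := by
  refine (by decide +kernel : ∀ s t : F4, re s = re t → fs s + s = fs t + t → s = t) _ _ ?_ ?_
  · rw [D, D, D, mul_d]
    exact (by decide +kernel : ∀ d d' p q r s, re (mk2 (bx (bx d d') (re s)) p) =
      re (mk2 d q + mk2 d' r + s)) _ _ _ _ _ _
  · simp only [fs_add, fs_D, mul_U, mul_V, mul_a]
    simp only [V, U, fs_add, fs_mul, fs_fs, fs_F]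
    have := two
    grind

theorem mat_mul (x y : T0) : mat (x * y) = mat x * mat y := by
  ext i j
  fin_cases i <;> fin_cases j <;>
    simp [mat, Matrix.mul_apply, Fin.sum_univ_five, mul_a, mul_b, mul_c, mul_e, mul_F, mul_D,
      mul_U, mul_V, fs_add] <;> ring

theorem mat_inj : Function.Injective mat := fun x y h => by
  have h1 : ∀ s t u v, mk2 s t = mk2 u v → s = u := by decide +kernel
  exact T0.ext (congrFun (congrFun h 0) 1) (congrFun (congrFun h 1) 2) (congrFun (congrFun h 0) 2)
    (congrFun (congrFun h 0) 3) (h1 _ _ _ _ (congrFun (congrFun h 1) 3))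
    (h1 _ _ _ _ (congrFun (congrFun h 0) 4))

instance instGroup : Group T0 := Group.ofLeftAxioms
  (fun a b c => mat_inj (by simp only [mat_mul, mul_assoc]))
  (by decide +kernel) (by decide +kernel)

/-- the entries -/
def toBits : T0 ≃ F4 × F4 × F4 × F4 × Bool × Bool where
  toFun x := (x.a, x.e, x.b, x.c, x.f, x.d)
  invFun x := ⟨x.1, x.2.1, x.2.2.1, x.2.2.2.1, x.2.2.2.2.1, x.2.2.2.2.2⟩
  left_inv _ := rfl
  right_inv _ := rfl

instance instFintype : Fintype T0 := Fintype.ofEquiv _ toBits.symm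

theorem card_eq : Nat.card T0 = 1024 := by
  rw [Nat.card_congr toBits]; simp [F4.card_eq]

end T0

end Cfsg.Agent.U52
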