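/-
Finite facts on the Sylow 2-subgroup of `U₅(2)`.
-/
import Cfsg.Agent.U52.Model

set_option autoImplicit false
set_option maxRecDepth 100000
set_option synthInstance.maxSize 4096

noncomputable section

namespace Cfsg.Agent.U52

open Subgroup H29 H29.F4 T0

/-- the central involution -/
def z0 : T0 := ⟨o, o, o, o, false, true⟩
/-- another transvection -/
def t0 : T0 := ⟨o, o, o, o, true, false⟩
/-- an element of order four modulo `Q0` -/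
def k0 : T0 := ⟨o, i, o, o, false, false⟩

theorem inv_a (x : T0) : x⁻¹.a = x.a := rfl
theorem inv_e (x : T0) : x⁻¹.e = x.e := rfl
theorem inv_b (x : T0) : x⁻¹.b = fa x.b (fm x.e x.a) := rfl
theorem inv_f (x : T0) : x⁻¹.f = bx x.f (nm x.e) := rfl

/-- the extraspecial normal subgroup of order 128 -/
def Q0 : Subgroup T0 where
  carrier := {x | x.e = o ∧ x.f = false}
  one_mem' := ⟨rfl, rfl⟩
  mul_mem' := by
    rintro x y ⟨h1, h2⟩ ⟨k1, k2⟩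
    exact ⟨by rw [mul_e, h1, k1]; rfl, by rw [mul_f, h1, k1, h2, k2]; rfl⟩
  inv_mem' := by
    rintro x ⟨h1, h2⟩
    exact ⟨by rw [inv_e, h1], by rw [inv_f, h1, h2]; rfl⟩

/-- the centralizer of `E0` -/
def R0 : Subgroup T0 where
  carrier := {x | x.a = o}
  one_mem' := rfl
  mul_mem' := by
    rintro x y (h1 : x.a = o) (k1 : y.a = o)
    exact show (x * y).a = o by rw [mul_a, h1, k1]; rfl
  inv_mem' := fun h => h

/-- the elementary abelian subgroup of order 16 -/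
def E0 : Subgroup T0 where
  carrier := {x | x.a = o ∧ x.e = o ∧ x.b = o}
  one_mem' := ⟨rfl, rfl, rfl⟩
  mul_mem' := by
    rintro x y ⟨h1, h2, h3⟩ ⟨k1, k2, k3⟩
    exact ⟨by rw [mul_a, h1, k1]; rfl, by rw [mul_e, h2, k2]; rfl,
      by rw [mul_b, h1, h3, k2, k3]; rfl⟩
  inv_mem' := by
    rintro x ⟨h1, h2, h3⟩
    exact ⟨h1, h2, by rw [inv_b, h1, h2, h3]; rfl⟩

instance : DecidablePred (· ∈ Q0) := fun x =>
  decidable_of_iff (ba (fe x.e o) (be x.f false) = true) (by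
    simp only [ba_eq, Bool.and_eq_true, fe_iff, be_iff]; rfl)

instance : DecidablePred (· ∈ R0) := fun x => decidable_of_iff (fe x.a o = true) (fe_iff _ _)

instance : DecidablePred (· ∈ E0) := fun x =>
  decidable_of_iff (ba (fe x.a o) (ba (fe x.e o) (fe x.b o)) = true) (by
    simp only [ba_eq, Bool.and_eq_true, fe_iff]; rfl)

/-- the five transvections -/
def D0 (x : T0) : Prop := ba (fe x.e o) (ba (fe x.a o) (ba (fe x.b o)
  (t4 (bx x.f x.d) (ba x.f x.d) (ba x.f x.d) (ba x.f x.d) x.c))) = true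

instance : DecidablePred D0 := fun _ => inferInstanceAs (Decidable (_ = true))

theorem card_Q0 : Nat.card Q0 = 128 := by
  rw [Nat.card_congr (show Q0 ≃ F4 × F4 × F4 × Bool from
    { toFun := fun x => (x.1.a, x.1.b, x.1.c, x.1.d)
      invFun := fun x => ⟨⟨x.1, o, x.2.1, x.2.2.1, false, x.2.2.2⟩, rfl, rfl⟩
      left_inv := fun ⟨⟨_, _, _, _, _, _⟩, rfl, rfl⟩ => rfl
      right_inv := fun _ => rfl })]
  simp [F4.card_eq]

theorem card_R0 : Nat.card R0 = 256 := by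
  rw [Nat.card_congr (show R0 ≃ F4 × F4 × F4 × Bool × Bool from
    { toFun := fun x => (x.1.e, x.1.b, x.1.c, x.1.f, x.1.d)
      invFun := fun x => ⟨⟨o, x.1, x.2.1, x.2.2.1, x.2.2.2.1, x.2.2.2.2⟩, rfl⟩
      left_inv := fun ⟨⟨_, _, _, _, _, _⟩, rfl⟩ => rfl
      right_inv := fun _ => rfl })]
  simp [F4.card_eq]

theorem card_E0 : Nat.card E0 = 16 := by
  rw [Nat.card_congr (show E0 ≃ F4 × Bool × Bool from
    { toFun := fun x => (x.1.c, x.1.f, x.1.d)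
      invFun := fun x => ⟨⟨o, o, o, x.1, x.2.1, x.2.2⟩, rfl, rfl, rfl⟩
      left_inv := fun ⟨⟨_, _, _, _, _, _⟩, rfl, rfl, rfl⟩ => rfl
      right_inv := fun _ => rfl })]
  simp [F4.card_eq]

theorem Q_normal : Q0.Normal := ⟨by
  rintro x ⟨h1, h2⟩ g
  refine ⟨?_, ?_⟩
  · rw [mul_e, mul_e, inv_e, h1]
    exact (by decide +kernel : ∀ s : F4, s + o + s = o) _
  · rw [mul_f, mul_f, mul_e, inv_e, inv_f, h1, h2]
    exact (by decide +kernel : ∀ (s : F4) f, bx (bx (bx (bx f false) (re (s * fs o))) (bx f (nm s)))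
      (re ((s + o) * fs s)) = false) _ _⟩

theorem z_cen : ∀ x, x * z0 = z0 * x := by decide +kernel

theorem misc : z0 * z0 = 1 ∧ z0 ≠ 1 ∧ z0 ∈ Q0 ∧ D0 z0 ∧ D0 t0 ∧ t0 ≠ z0 := by decide +kernel

theorem Q_sq : ∀ a ∈ Q0, a * a = 1 ∨ a * a = z0 := by decide +kernel

theorem Q_cm : ∀ a ∈ Q0, ∀ b ∈ Q0, a * b * a⁻¹ = b ∨ a * b * a⁻¹ = z0 * b := by decide +kernel

theorem Q_cent : ∀ x, x = 1 ∨ x = z0 ∨ ∃ b ∈ Q0, b * x ≠ x * b := by decide +kernel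

theorem Q_cent2 : ∀ x, x ∈ Q0 ∨ ∃ b ∈ Q0, x * b ≠ b * x ∧ x * b ≠ z0 * (b * x) := by
  decide +kernel

theorem inv_QE : ∀ x, x * x = 1 → x ∈ Q0 ∨ x ∈ E0 := by decide +kernel

theorem E_comm : ∀ a ∈ E0, ∀ b ∈ E0, a * b = b * a := by decide +kernel

theorem factK : ∀ q ∈ Q0, ∃ u ∈ Q0, (u * u = 1 ∧ u * q = q * u) ∧
    ∃ v ∈ Q0, (v * v = 1 ∧ v * q = q * v ∧ u * v = z0 * (v * u)) ∧
    ∃ w ∈ Q0, w * w = 1 ∧ w * q = q * w ∧ u * w = z0 * (w * u) ∧ v * w = z0 * (w * v) := by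
  decide +kernel

theorem factR : ∀ c ∈ R0, c * (z0 * t0) = z0 * t0 * c ∧ c * c ≠ z0 * t0 ∧ (c * c = 1 → c ∈ E0) := by
  decide +kernel

theorem factE : ∀ x ∈ E0, x ∈ Q0 ∨ D0 x ∨ D0 (z0 * x) := by decide +kernel

theorem factD : ∀ x, D0 x → (x * x = 1 ∧ x ≠ 1 ∧ (x ∈ Q0 → x = z0)) ∧
    (x = z0 ∨ ∃ k, k * t0 * k⁻¹ = x) ∧ ∃ a ∈ Q0, a * x = x * a ∧ a * a ≠ 1 := by decide +kernel

theorem fact1 : ∀ x, x * x = z0 → x ∈ Q0 ∨ ∃ k, k * x = x * k ∧ k * k * (k * k) ≠ 1 := by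
  decide +kernel

theorem fact2 : ∀ x, x * x = z0 → (∀ k, k * x = x * k → k * k * (k * k) = 1) ∨
    ∀ k, k * x = x * k → k * k = 1 → k ∈ E0 := by
  decide +kernel

/-- the elements of a quaternion subgroup of `Q0` -/
def P8 (x : T0) : Prop := x = 1 ∨ x = z0 ∨ x * x = z0

instance : DecidablePred P8 := fun _ => inferInstanceAs (Decidable (_ ∨ _ ∨ _))

theorem fact3 : ∀ x ∈ Q0, x * x = z0 → P8 (x * (k0 * x * k0⁻¹)) →
    ¬ P8 (x * (k0 * (k0 * x * k0⁻¹) * k0⁻¹)) := by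
  decide +kernel

theorem fact4 : ∀ x ∈ Q0, x * (k0 * x * k0⁻¹) = k0 * x * k0⁻¹ * x → ∀ y ∈ Q0,
    y * (k0 * x * k0⁻¹) = k0 * x * k0⁻¹ * y → y * (k0 * y * k0⁻¹) = k0 * y * k0⁻¹ * y →
    x * y = y * x := by
  decide +kernel

theorem fact5 : ∀ y, y * y = 1 → y = 1 ∨ D0 y ∨ ∃ d, D0 d ∧ d * y = y * d ∧
    ∀ d', D0 d' → d' * y = y * d' → (D0 (y * d) → D0 (y * d')) → d' = d ∨ d' = y * d := by
  decide +kernel

theorem fact6 : ∀ b, b * b = 1 → ∃ y, (y * y = 1 ∧ y * b = b * y ∧ y ≠ 1 ∧ y ≠ z0) ∧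
    ∃ u, u * u = 1 ∧ u * b = b * u ∧ u * y = y * u ∧ u ≠ 1 ∧ u ≠ z0 ∧ u ≠ y ∧ u ≠ z0 * y := by
  decide +kernel

end Cfsg.Agent.U52
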