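/-
Fusion in a group with a Sylow 2-subgroup of type `U₅(2)`.
-/
import Cfsg.Agent.U52.Facts
import Cfsg.Agent.H49.SylowOf
import Cfsg.Agent.H75.ZStar

set_option autoImplicit false

namespace Cfsg.Agent.U52

open Subgroup Cfsg.Agent.H49

variable {G : Type*} [Group G] {φ : T0 →* G}

/-- the image of `φ` is a Sylow 2-subgroup -/
structure Sy (φ : T0 →* G) : Prop where
  inj : Function.Injective φ
  syl : IsSylowOf 2 φ.range ⊤

/-- `g` moves the centralizer of `a` into the Sylow subgroup -/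
def In (φ : T0 →* G) (g : G) (a : T0) : Prop :=
  ∀ c, c * a = a * c → ∃ c', g * φ c * g⁻¹ = φ c'

/-- the conjugates of the central involution -/
def Dz (φ : T0 →* G) (x : G) : Prop := ∃ g, g * φ z0 * g⁻¹ = x

theorem Dz.conj {x : G} (h : Dz φ x) (g : G) : Dz φ (g * x * g⁻¹) := by
  obtain ⟨k, rfl⟩ := h
  exact ⟨g * k, by group⟩

theorem Dz.of_conj {x g : G} (h : Dz φ (g * x * g⁻¹)) : Dz φ x := by
  simpa [mul_assoc] using h.conj g⁻¹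

theorem dz_z : Dz φ (φ z0) := ⟨1, by simp⟩

theorem zz : φ z0 * φ z0 = 1 := by rw [← map_mul, misc.1, map_one]

theorem range_le_C : φ.range ≤ 𝒞[φ z0] := by
  rintro _ ⟨a, rfl⟩
  rw [mem_cent1, ← map_mul, z_cen, map_mul]

theorem cT_le (a : T0) : 𝒞[a].map φ ≤ 𝒞[φ a] := by
  rintro _ ⟨c, hc, rfl⟩
  rw [mem_cent1, ← map_mul, mem_cent1.1 hc, map_mul]

theorem in_of_le {g : G} {a : T0} (h : cj g (𝒞[a].map φ) ≤ φ.range) : In φ g a := fun c hc => by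
  obtain ⟨c', e⟩ := h (conj_mem_cj.2 (mem_map_of_mem φ (mem_cent1.2 hc)))
  exact ⟨c', e.symm⟩

theorem pi_zp {a : G} (ha : a * a = 1) : IsPi {2} (zpowers a) := by
  rw [isPi_zpowers]
  exact (isPiNat_singleton_pow Nat.prime_two 1).of_dvd
    (by rw [pow_one]; exact orderOf_dvd_of_pow_eq_one (by rw [sq]; exact ha))

theorem mv_mul {g : G} {a b a' b' : T0} (h1 : g * φ a * g⁻¹ = φ a') (h2 : g * φ b * g⁻¹ = φ b') :
    g * φ (a * b) * g⁻¹ = φ (a' * b') := by rw [map_mul, map_mul, ← conj_mul, h1, h2]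

namespace Sy

variable (h : Sy φ)
include h

theorem one_iff {a : T0} : φ a = 1 ↔ a = 1 := map_eq_one_iff φ h.inj

theorem z_ne : φ z0 ≠ 1 := fun e => misc.2.1 (h.one_iff.1 e)

theorem card (K : Subgroup T0) : Nat.card (K.map φ) = Nat.card K := card_map_of_injective h.inj

theorem pi (K : Subgroup T0) : IsPi {2} (K.map φ) := h.syl.pi.of_le (map_le_range _ _)

theorem mv_eq {g : G} {a b a' b' : T0} (h1 : g * φ a * g⁻¹ = φ a') (h2 : g * φ b * g⁻¹ = φ b') :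
    a' = b' ↔ a = b := by
  rw [← h.inj.eq_iff, ← h1, ← h2, mul_left_inj, mul_right_inj, h.inj.eq_iff]

theorem mv_one {g : G} {a a' : T0} (h1 : g * φ a * g⁻¹ = φ a') : a' = 1 ↔ a = 1 :=
  h.mv_eq h1 (by simp)

theorem dz_sq {a : T0} (ha : Dz φ (φ a)) : a * a = 1 ∧ a ≠ 1 := by
  obtain ⟨g, hg⟩ := ha
  exact ⟨(h.mv_one (mv_mul hg hg)).2 misc.1, fun e => misc.2.1 ((h.mv_one hg).1 e)⟩

variable [Finite G]

theorem toz {a : T0} (ha : Dz φ (φ a)) : ∃ k, k * φ a * k⁻¹ = φ z0 ∧ In φ k a := by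
  obtain ⟨g, hg⟩ := ha
  have e : g⁻¹ * φ a * g⁻¹⁻¹ = φ z0 := by rw [← hg]; group
  obtain ⟨c, hc, h1⟩ := sylowOf_subJ (h.syl.sub range_le_C le_top) (X := cj g⁻¹ (𝒞[a].map φ))
    (by rw [← e, ← cj_cent1]; exact cj_mono _ (cT_le a)) ((h.pi _).cj _)
  refine ⟨c * g⁻¹, ?_, in_of_le (by rwa [cj_mul])⟩
  calc _ = c * (g⁻¹ * φ a * g⁻¹⁻¹) * c⁻¹ := by group
    _ = _ := by rw [e, mem_cent1.1 hc, mul_inv_cancel_right]

theorem two {H : Subgroup G} (hH : φ.range ≤ H) {a a' : T0} {g : G} (hg : g ∈ H)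
    (e : g * φ a * g⁻¹ = φ a') : ∃ b, ∃ k ∈ H, ∃ k' ∈ H, k * φ a * k⁻¹ = φ b ∧
      k' * φ a' * k'⁻¹ = φ b ∧ In φ k a ∧ In φ k' a' := by
  have hle : ∀ x, 𝒞[x].map φ ≤ H := fun x => (map_le_range _ _).trans hH
  obtain ⟨S, hS, h1⟩ := exists_sylowOf_ge (h.pi 𝒞[a']) (le_inf (hle _) (cT_le a'))
  obtain ⟨c, hc, h2⟩ := sylowOf_subJ hS (X := cj g (𝒞[a].map φ))
    (le_inf (cj_le_of_mem (hle _) hg) (by rw [← e, ← cj_cent1]; exact cj_mono _ (cT_le a)))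
    ((h.pi _).cj _)
  obtain ⟨k, hk, h3⟩ := sylowOf_subJ (h.syl.sub hH le_top) (hS.le.trans inf_le_left) hS.pi
  obtain ⟨b, hb⟩ := h3 (conj_mem_cj.2 (h1 (mem_map_of_mem φ (self_mem_cent1 a'))))
  refine ⟨b, k * (c * g), mul_mem hk (mul_mem hc.1 hg), k, hk, ?_, hb.symm,
    in_of_le (by rw [cj_mul, cj_mul]; exact (cj_mono _ h2).trans h3),
    in_of_le ((cj_mono _ h1).trans h3)⟩
  calc _ = k * (c * (g * φ a * g⁻¹) * c⁻¹) * k⁻¹ := by group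
    _ = _ := by rw [e, mem_cent1.1 hc.2, mul_inv_cancel_right, hb]

theorem extr {y : G} (hy : y * y = 1) :
    ∃ g b, g * y * g⁻¹ = φ b ∧ IsSylowOf 2 (𝒞[b].map φ) 𝒞[φ b] := by
  obtain ⟨S, hS, h1⟩ := exists_sylowOf_ge (p := 2) (X := zpowers y) (M := 𝒞[y])
    (pi_zp hy) (zpowers_le.2 (self_mem_cent1 y))
  obtain ⟨k, -, h3⟩ := sylowOf_subJ h.syl le_top hS.pi
  obtain ⟨b, hb⟩ := h3 (conj_mem_cj.2 (h1 (mem_zpowers y)))
  have h4 := hS.cj k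
  rw [cj_cent1, ← hb] at h4
  refine ⟨k, b, hb.symm, h4.of_card_le (cT_le b) (h.pi _) (card_le_of_le fun x hx => ?_)⟩
  obtain ⟨c, rfl⟩ := h3 hx
  exact mem_map_of_mem φ (mem_cent1.2 (h.inj (by
    rw [map_mul, map_mul]; exact mem_cent1.1 (h4.le hx))))

omit [Finite G] in
theorem fixz {q : T0} {k : G} (hq : q ∈ Q0) (hk : In φ k q) : k * φ z0 * k⁻¹ = φ z0 := by
  have pr : ∀ {u v u' v' : T0}, u * v = z0 * (v * u) → k * φ u * k⁻¹ = φ u' →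
      k * φ v * k⁻¹ = φ v' → (u' ∈ Q0 ∧ v' ∈ Q0) ∨ (u' ∈ E0 ∧ v' ∈ E0) →
      k * φ z0 * k⁻¹ = φ z0 := fun {u v u' v'} e h1 h2 h3 => by
    have h4 : φ (u' * v') = k * φ z0 * k⁻¹ * φ (v' * u') := by
      rw [← mv_mul h1 h2, ← mv_mul h2 h1, conj_mul, e, map_mul]
    have h5 : u' * v' ≠ v' * u' := fun e' => h.z_ne (by
      rw [e', right_eq_mul] at h4; simpa using h4)
    rcases h3 with ⟨h6, h7⟩ | ⟨h6, h7⟩
    · rcases Q_cm u' h6 v' h7 with e' | e'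
      · exact absurd (mul_inv_eq_iff_eq_mul.1 e') h5
      · rw [mul_inv_eq_iff_eq_mul.1 e', mul_assoc, map_mul, mul_left_inj] at h4
        exact h4.symm
    · exact absurd (E_comm _ h6 _ h7) h5
  obtain ⟨u, -, ⟨u1, u2⟩, v, -, ⟨v1, v2, uv⟩, w, -, w1, w2, uw, vw⟩ := factK q hq
  obtain ⟨u', hu⟩ := hk u u2
  obtain ⟨v', hv⟩ := hk v v2
  obtain ⟨w', hw⟩ := hk w w2
  have a1 := inv_QE u' ((h.mv_one (mv_mul hu hu)).2 u1)
  have a2 := inv_QE v' ((h.mv_one (mv_mul hv hv)).2 v1)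
  have a3 := inv_QE w' ((h.mv_one (mv_mul hw hw)).2 w1)
  have b1 := pr uv hu hv
  have b2 := pr uw hu hw
  have b3 := pr vw hv hw
  tauto

theorem wc {q : T0} (hq : q ∈ Q0) (hd : Dz φ (φ q)) : q = z0 := by
  obtain ⟨k, h1, h2⟩ := h.toz hd
  exact (h.mv_eq h1 (h.fixz hq h2)).1 rfl

theorem nzt : ¬ Dz φ (φ (z0 * t0)) := fun hd => by
  obtain ⟨k, h1, h2⟩ := h.toz hd
  have h3 : cj k (R0.map φ) ≤ φ.range := fun x hx => by
    obtain ⟨_, ⟨c, hc, rfl⟩, rfl⟩ := mem_cj'.1 hx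
    obtain ⟨c', e⟩ := h2 c (factR c hc).1
    exact ⟨c', e.symm⟩
  have h4 : cj k (R0.map φ) ⊓ Q0.map φ ≤ cj k (E0.map φ) := by
    rintro x ⟨hx, q, hq, e⟩
    obtain ⟨_, ⟨c, hc, rfl⟩, rfl⟩ := mem_cj'.1 hx
    refine conj_mem_cj.2 (mem_map_of_mem φ ((factR c hc).2.2 ?_))
    rcases Q_sq q hq with e' | e'
    · exact (h.mv_one (mv_mul e.symm e.symm)).1 e'
    · exact absurd ((h.mv_eq (mv_mul e.symm e.symm) h1).1 e') (factR c hc).2.1
  have h5 := card_mul_le h3 (map_le_range φ Q0)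
  have h6 := card_le_of_le h4
  rw [card_cj, h.card, card_E0] at h6
  rw [card_cj, h.card, h.card, card_R0, card_Q0, MonoidHom.range_eq_map, h.card, card_top,
    T0.card_eq] at h5
  omega

theorem d0_of {a : T0} (hd : Dz φ (φ a)) : D0 a := by
  by_cases hq : a ∈ Q0
  · rw [h.wc hq hd]; exact misc.2.2.2.1
  rcases factE a ((inv_QE a (h.dz_sq hd).1).resolve_left hq) with e | e | e
  · exact absurd e hq
  · exact e
  rcases (factD _ e).2.1 with e' | ⟨k, e'⟩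
  · exact absurd (by simpa using e') (h.dz_sq hd).2
  refine absurd (Dz.of_conj (g := φ k) ?_) h.nzt
  rwa [← map_inv, ← map_mul, ← map_mul, ← conj_mul, e', z_cen k, mul_inv_cancel_right,
    ← mul_assoc, misc.1, one_mul]

theorem dz_t [IsSimpleGroup G] : Dz φ (φ t0) := by
  obtain ⟨S, hS⟩ := exists_sylow_of_top Nat.prime_two h.syl
  by_contra hn
  have := H75.card_eq_two_of_isolated_of_simple S (u := φ z0)
    (orderOf_eq_prime (by rw [pow_two, zz]) h.z_ne) (hS ▸ ⟨_, rfl⟩) fun g hg => by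
      rw [hS] at hg
      obtain ⟨a, ha⟩ := hg
      rcases (factD a (h.d0_of ⟨g, ha.symm⟩)).2.1 with e | ⟨k, e⟩
      · rw [← ha, e]
      · exact absurd (Dz.of_conj (g := φ k) (by
          rw [← map_inv, ← map_mul, ← map_mul, e]; exact ⟨g, ha.symm⟩)) hn
  have h1 := Nat.card_le_card_of_injective φ h.inj
  rw [T0.card_eq] at h1
  omega

theorem dz_of (ht : Dz φ (φ t0)) {a : T0} (ha : D0 a) : Dz φ (φ a) := by
  rcases (factD a ha).2.1 with rfl | ⟨k, rfl⟩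
  · exact dz_z
  · rw [map_mul, map_mul, map_inv]; exact ht.conj _

/-- `Q` is strongly closed with respect to `C(z)` -/
theorem strong (ht : Dz φ (φ t0)) {q x : T0} {g : G} (hg : g ∈ 𝒞[φ z0]) (hq : q ∈ Q0)
    (e : g * φ q * g⁻¹ = φ x) : x ∈ Q0 := by
  have fz : ∀ {k}, k ∈ 𝒞[φ z0] → k * φ z0 * k⁻¹ = φ z0 := fun hk =>
    mul_inv_eq_iff_eq_mul.2 (mem_cent1.1 hk)
  by_contra hx
  rcases Q_sq q hq with e1 | e1
  · rcases factE x ((inv_QE x ((h.mv_one (mv_mul e e)).2 e1)).resolve_left hx) with e2 | e2 | e2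
    · exact hx e2
    · have := h.wc hq (Dz.of_conj (g := g) (e ▸ h.dz_of ht e2))
      exact hx (((h.mv_eq e (fz hg)).2 this) ▸ misc.2.2.1)
    · have := h.wc (mul_mem misc.2.2.1 hq)
        (Dz.of_conj (g := g) ((mv_mul (fz hg) e) ▸ h.dz_of ht e2))
      exact hx (((h.mv_one e).2 (by simpa using this)) ▸ one_mem _)
  obtain ⟨b, k, hk, k', hk', h1, h2, h3, h4⟩ := h.two range_le_C hg e
  rcases fact2 b ((h.mv_eq (mv_mul h1 h1) (fz hk)).2 e1) with h5 | h5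
  · obtain ⟨c, c1, c2⟩ := (fact1 x ((h.mv_eq (mv_mul e e) (fz hg)).2 e1)).resolve_left hx
    obtain ⟨c', hc⟩ := h4 c c1
    exact c2 ((h.mv_one (mv_mul (mv_mul hc hc) (mv_mul hc hc))).1
      (h5 c' ((h.mv_eq (mv_mul hc h2) (mv_mul h2 hc)).2 c1)))
  · obtain ⟨u, -, ⟨u1, u2⟩, v, -, ⟨v1, v2, uv⟩, -⟩ := factK q hq
    obtain ⟨u', hu⟩ := h3 u u2
    obtain ⟨v', hv⟩ := h3 v v2
    have := (h.mv_eq (mv_mul hu hv) (mv_mul hv hu)).1 (E_comm _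
      (h5 u' ((h.mv_eq (mv_mul hu h1) (mv_mul h1 hu)).2 u2) ((h.mv_one (mv_mul hu hu)).2 u1)) _
      (h5 v' ((h.mv_eq (mv_mul hv h1) (mv_mul h1 hv)).2 v2) ((h.mv_one (mv_mul hv hv)).2 v1)))
    rw [this, right_eq_mul] at uv
    exact misc.2.1 uv

end Sy

end Cfsg.Agent.U52
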