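/-
The centralizer of the central involution modulo that involution: no components.
-/
import Cfsg.Agent.U52.Fus
import Cfsg.Agent.GOLD.Main

set_option autoImplicit false

namespace Cfsg.Agent.U52

open Subgroup Cfsg.Agent.H49 Cfsg.Agent.GOLD
open scoped commutatorElement

universe u

variable {K X : Type u} [Group K] [Group X] {φ : T0 →* K} {π : K →* X}

/-- `z` is central, `Q` is strongly closed, `π` is the quotient map modulo `z` -/
structure Co (φ : T0 →* K) (π : K →* X) : Prop extends Sy φ where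
  cen : ∀ g, g * φ z0 = φ z0 * g
  sc : ∀ q ∈ Q0, ∀ g x, g * φ q * g⁻¹ = φ x → x ∈ Q0
  surj : Function.Surjective π
  eq : ∀ x y, π x = π y ↔ x = y ∨ x = φ z0 * y

theorem z_mul_mem {x : T0} : z0 * x ∈ Q0 ↔ x ∈ Q0 := Q0.mul_mem_cancel_left misc.2.2.1

theorem comm_z {a b : T0} : a * (z0 * b) = z0 * b * a ↔ a * b = b * a := by
  rw [← mul_assoc, z_cen, mul_assoc, mul_assoc, mul_right_inj]

theorem conj_eq_of {a a' b : T0} (ha : a ∈ Q0) (ha' : a' ∈ Q0) (hb : b ∈ Q0)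
    (h : a' * b = b * a' ↔ a * b = b * a) : b * (a⁻¹ * a') = a⁻¹ * a' * b := by
  have n : ∀ x : T0, x * b * x⁻¹ = z0 * b → x * b ≠ b * x := fun x e e' => misc.2.1 (by
    rwa [e', mul_inv_cancel_right, right_eq_mul] at e)
  have : a' * b * a'⁻¹ = a * b * a⁻¹ := by
    rcases Q_cm a ha b hb with e | e <;> rcases Q_cm a' ha' b hb with e' | e'
    · rw [e, e']
    · exact absurd (h.2 (mul_inv_eq_iff_eq_mul.1 e)) (n _ e')
    · exact absurd (h.1 (mul_inv_eq_iff_eq_mul.1 e')) (n _ e)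
    · rw [e, e']
  calc _ = a⁻¹ * (a * b * a⁻¹) * a' := by group
    _ = _ := by rw [← this]; group

namespace Co

variable (h : Co φ π)
include h

theorem pz : π (φ z0) = 1 := by rw [← map_one π, h.eq]; simp

theorem lift_eq {g : K} {a : T0} (e : π g = π (φ a)) : g = φ a ∨ g = φ (z0 * a) := by
  rwa [h.eq, ← map_mul] at e

theorem syl' : IsSylowOf 2 (π.comp φ).range ⊤ := by
  have := h.syl.map π
  rwa [map_top_of_surjective _ h.surj, MonoidHom.map_range] at this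

theorem ea : EA (Q0.map (π.comp φ)) := by
  refine ⟨⟨⟨?_⟩⟩, ?_⟩
  · rintro ⟨_, a, ha, rfl⟩ ⟨_, b, hb, rfl⟩
    refine Subtype.ext (mul_inv_eq_iff_eq_mul.1 ?_)
    change (π.comp φ) a * (π.comp φ) b * ((π.comp φ) a)⁻¹ = (π.comp φ) b
    rw [← map_inv, ← map_mul, ← map_mul]
    rcases Q_cm a ha b hb with e | e <;> rw [e]
    simp [h.pz]
  · rintro _ ⟨a, ha, rfl⟩
    rw [pow_two, ← map_mul]
    rcases Q_sq a ha with e | e <;> simp [e, h.pz]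

theorem mv {s : K} {a b : T0} (e : π s * (π.comp φ) a * (π s)⁻¹ = (π.comp φ) b) :
    s * φ a * s⁻¹ = φ b ∨ s * φ a * s⁻¹ = φ (z0 * b) :=
  h.lift_eq (by simpa using e)

theorem lift {s : K} (hs : π s ∈ 𝒩(Q0.map (π.comp φ))) {a : T0} (ha : a ∈ Q0) :
    ∃ a' ∈ Q0, s * φ a * s⁻¹ = φ a' := by
  obtain ⟨b, hb, e⟩ := conj_mem_of_norm le_rfl hs (mem_map_of_mem (π.comp φ) ha)
  rcases h.mv e.symm with e | e
  exacts [⟨_, hb, e⟩, ⟨_, z_mul_mem.2 hb, e⟩]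

variable [Finite K] [Finite X]

omit [Finite K] in
theorem sc' : SC ⊤ (Q0.map (π.comp φ)) := SC.of_sylow h.syl' (map_le_range _ _) (by
  rintro _ ⟨a, ha, rfl⟩ g - ⟨b, e⟩
  obtain ⟨s, rfl⟩ := h.surj g
  rw [← e]
  rcases h.mv e.symm with e | e
  exacts [mem_map_of_mem _ (h.sc a ha _ _ e), mem_map_of_mem _ (z_mul_mem.1 (h.sc a ha _ _ e))])

omit [Finite K] in
theorem not_ac (J : Subgroup X) : ¬ AC ⊤ (Q0.map (π.comp φ)) J := fun hJ => by
  have acd := (str h.sc' h.ea).acd J hJ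
  obtain ⟨R, hRJ, tr, -⟩ := acd.trans
  set ψ := π.comp φ with hψ
  set B : Subgroup T0 := Q0 ⊓ (CO J).comap ψ with hB
  set W : Subgroup T0 := Q0 ⊓ 𝒞(B) with hW
  have mB : ∀ {a}, a ∈ B ↔ a ∈ Q0 ∧ ψ a ∈ CO J := Iff.rfl
  have cW : ∀ {w b}, w ∈ W → b ∈ B → b * w = w * b := fun hw hb => hw.2 _ hb
  have mA : ∀ {a}, a ∈ Q0 → ψ a ∈ Q0.map ψ := mem_map_of_mem ψ
  have zB : z0 ∈ B := mB.2 ⟨misc.2.2.1, by rw [hψ, MonoidHom.comp_apply, h.pz]; exact one_mem _⟩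
  have pm : ∀ {s a a'}, s * φ a * s⁻¹ = φ a' → π s * ψ a * (π s)⁻¹ = ψ a' := fun e => by
    simpa [hψ] using congrArg π e
  -- commutators with `R`
  have mvW : ∀ {s a a'}, π s ∈ R → a ∈ Q0 → a' ∈ Q0 → s * φ a * s⁻¹ = φ a' →
      a⁻¹ * a' ∈ W ∧ ψ (a⁻¹ * a') ∈ J := fun {s a a'} hs ha ha' e => by
    refine ⟨mem_inf.2 ⟨mul_mem (inv_mem ha) ha', fun b hb => conj_eq_of ha ha' hb.1 ?_⟩, ?_⟩
    · have h1 : ψ b * π s * (ψ b)⁻¹ * (π s)⁻¹ ∈ Q0.map ψ ⊓ O J := ⟨by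
        rw [mul_assoc, mul_assoc, ← mul_assoc (π s)]
        exact mul_mem (mA hb.1) (conj_mem_of_norm tr.norm hs (inv_mem (mA hb.1))),
        (mem_CO.1 hb.2).2.2 _ (hRJ hs)⟩
      rw [H49.inf_eq_bot_of_coprime (cop_two h.sc'.2.1 (od_O J)), mem_bot] at h1
      have h2 : π s * ψ b * (π s)⁻¹ = ψ b := by
        calc _ = (ψ b * π s * (ψ b)⁻¹ * (π s)⁻¹)⁻¹ * ψ b := by group
          _ = _ := by rw [h1]; simp
      rcases h.mv h2 with e' | e'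
      · exact h.mv_eq (mv_mul e e') (mv_mul e' e)
      · exact comm_z.symm.trans (h.mv_eq (mv_mul e e') (mv_mul e' e))
    · rw [map_mul, map_inv, ← pm e, ← mul_assoc, ← mul_assoc]
      exact mul_mem (conj_mem_of_norm' acd.norm (mA ha) (hRJ hs)) (inv_mem (hRJ hs))
  have trans : ∀ {a b}, a ∈ Q0 → a ∉ B → b ∈ Q0 → b ∉ B → ∃ s a', π s ∈ R ∧ a' ∈ Q0 ∧
      s * φ a * s⁻¹ = φ a' ∧ a' * b⁻¹ ∈ B := fun {a b} ha ha' hb hb' => by
    obtain ⟨r, hr, h1⟩ := tr.trans _ (mA ha) (fun e => ha' ⟨ha, e.2⟩) _ (mA hb)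
      fun e => hb' ⟨hb, e.2⟩
    obtain ⟨s, rfl⟩ := h.surj r
    obtain ⟨a', h2, h3⟩ := h.lift (tr.norm hr) ha
    exact ⟨s, a', hr, h2, h3, mB.2 ⟨mul_mem h2 (inv_mem hb), by
      rw [map_mul, map_inv, ← pm h3]; exact h1.2⟩⟩
  have star : ∀ {a}, a ∈ Q0 → a ∉ B → ∃ c ∈ W, ψ c ∈ J ∧ c * a⁻¹ ∈ B := fun {a} ha ha' => by
    obtain ⟨x, hx, h1, h2⟩ : ∃ x ∈ Q0, x ∉ B ∧ x * a ∉ B := by
      by_contra! hc
      have : (CO J).relIndex (Q0.map ψ) = 2 := relIndex_eq_two_iff.2 ⟨_, mA ha, by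
        rintro _ ⟨x, hx, rfl⟩
        by_cases e : ψ x ∈ CO J
        · exact Or.inr ⟨e, fun e' => ha' ⟨ha, ((CO J).mul_mem_cancel_left e).1 e'⟩⟩
        · exact Or.inl ⟨by simpa using (hc x hx fun e' => e e'.2).2, e⟩⟩
      have := acd.four
      omega
    obtain ⟨s, x', hs, hx', e, h3⟩ := trans hx h1 (mul_mem hx ha) h2
    obtain ⟨h4, h5⟩ := mvW hs hx hx' e
    refine ⟨_, h4, h5, ?_⟩
    rw [show x⁻¹ * x' * a⁻¹ = x⁻¹ * (x' * (x * a)⁻¹) * x⁻¹⁻¹ by group]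
    rcases Q_cm _ (inv_mem hx) _ h3.1 with e' | e' <;> rw [e']
    exacts [h3, mul_mem zB h3]
  have back : ∀ {c a w}, c * a⁻¹ ∈ B → w ∈ W → c * w = w * c → a * w = w * a :=
    fun {c a w} h1 hw e => by
      calc _ = (c * a⁻¹)⁻¹ * (c * w) := by group
        _ = _ := by rw [e, ← mul_assoc, cW hw (inv_mem h1)]; group
  have WB : ∀ {w}, w ∈ W → w ∈ B → w = 1 ∨ w = z0 := fun {w} hw hw' => by
    rcases Q_cent w with e | e | ⟨b, hb, e⟩
    exacts [Or.inl e, Or.inr e, absurd (by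
      by_cases hb' : b ∈ B
      · exact cW hw hb'
      · obtain ⟨c, hc, -, h1⟩ := star hb hb'
        exact back h1 hw (cW hc hw').symm) e]
  have same : ∀ {w w'}, w ∈ W → w ∉ B → w' ∈ W → w' ∉ B → w * w = 1 → w' * w' = 1 :=
    fun {w w'} hw n hw' n' e => by
      obtain ⟨s, x, hs, hx, e', h3⟩ := trans hw.1 n hw'.1 n'
      have h4 := (W.mul_mem_cancel_left (inv_mem hw)).1 (mvW hs hw.1 hx e').1
      have h5 := (h.mv_one (mv_mul e' e')).2 e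
      rcases WB (mul_mem h4 (inv_mem hw')) h3 with h6 | h6 <;> rw [mul_inv_eq_iff_eq_mul] at h6
      · rwa [h6, one_mul] at h5
      · rwa [h6, mul_assoc, comm_z.2 rfl, ← mul_assoc, ← mul_assoc, misc.1, one_mul] at h5
  obtain ⟨_, ⟨a, ha, rfl⟩, ha'⟩ := SetLike.not_le_iff_exists.1 hJ.2
  obtain ⟨c, hc, cJ, h1⟩ := star ha fun e => ha' e.2
  have cB : c ∉ B := fun e => ha' (inv_mem_iff.1 ((B.mul_mem_cancel_left e).1 h1)).2
  obtain ⟨b, hb, nb⟩ := ((Q_cent c).resolve_left fun e => cB (e ▸ one_mem _)).resolve_left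
    fun e => cB (e ▸ zB)
  obtain ⟨d, hd, dJ, h2⟩ := star hb fun e => nb (cW hc e)
  have cd : d * c ≠ c * d := fun e => nb (back h2 hc e)
  have cc : ∀ {w}, w ∈ W → w ∉ B → w * w ≠ 1 := fun hw n e => cd (by
    have e1 := same hw n hc cB e
    have e2 := same hw n hd (fun e => cd (cW hc e)) e
    have e3 := same hw n (mul_mem hc hd) (fun e => cd (by
      have := cW hc e
      rwa [mul_assoc, mul_right_inj] at this)) e
    rw [← inv_eq_of_mul_eq_one_right e3, mul_inv_rev, inv_eq_of_mul_eq_one_right e1,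
      inv_eq_of_mul_eq_one_right e2])
  have p8 : ∀ {w}, w ∈ W → P8 w := fun {w} hw => by
    by_cases n : w ∈ B
    · exact (WB hw n).imp_right Or.inl
    · exact Or.inr (Or.inr ((Q_sq w hw.1).resolve_left (cc hw n)))
  have kQ : ∀ k, ∀ {x}, x ∈ Q0 → k * x * k⁻¹ ∈ Q0 := fun k _ hx => Q_normal.conj_mem _ hx k
  by_cases hk : J = cj (ψ k0) J
  · have h3 := norm_le_norm_CO J (inv_mem (mem_norm_iff_cj.2 hk.symm))
    have h4 : ∀ {w}, w ∈ W → k0 * w * k0⁻¹ ∈ W := fun {w} hw => ⟨kQ _ hw.1, fun x hx => by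
      have := cW hw (show k0⁻¹ * x * k0⁻¹⁻¹ ∈ B from mB.2 ⟨kQ _ hx.1, by
        rw [map_mul, map_mul, map_inv, map_inv, map_inv]
        exact conj_mem_of_norm le_rfl h3 hx.2⟩)
      calc _ = k0 * (k0⁻¹ * x * k0⁻¹⁻¹ * w) * k0⁻¹ := by group
        _ = _ := by rw [this]; group⟩
    exact fact3 c hc.1 ((Q_sq c hc.1).resolve_left (cc hc cB)) (p8 (mul_mem hc (h4 hc)))
      (p8 (mul_mem hc (h4 (h4 hc))))
  · have h3 := le_CO_of_ne hJ.1 (H71.pcomp_cj hJ.1 (mem_top _)) hk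
    have h4 : ∀ {w}, w ∈ W → ψ w ∈ J → k0 * w * k0⁻¹ ∈ B := fun hw hw' => mB.2 ⟨kQ _ hw.1, by
      rw [map_mul, map_mul, map_inv]; exact h3 (conj_mem_cj.2 hw')⟩
    exact cd (fact4 c hc.1 (cW hc (h4 hc cJ)).symm d hd.1 (cW hd (h4 hc cJ)).symm
      (cW hd (h4 hd dJ)).symm).symm

omit [Finite K] in
theorem lof' : H44.Lof 2 (⊤ : Subgroup X) = ⊥ := by
  have : Fact (Nat.Prime 2) := ⟨Nat.prime_two⟩
  have hE : ∀ J, H44.PComp 2 ⊤ J → Q0.map (π.comp φ) ≤ CO J := fun J hJ =>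
    by_contra fun hn => h.not_ac J ⟨hJ, hn⟩
  refine H44.Lof_eq_bot_iff.2 fun J hJ => not_le_CO hJ ?_
  have h1 : ⁅H44.Lof 2 (⊤ : Subgroup X), Q0.map (π.comp φ)⁆ ≤ O ⊤ :=
    H44.commutator_Lof_le (H44.le_normalizer_pPrimeCoreOf _) fun J hJ =>
      (le_CO_iff.1 (hE J hJ)).2.trans (hJ.Oppof_eq.le.trans inf_le_left)
  have hS := h.syl'.inf_normal (H44.Lof_le (p := 2) _) (H44.le_normalizer_Lof _)
  have h2 : (π.comp φ).range ⊓ H44.Lof 2 ⊤ ≤ CO J := by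
    rintro _ ⟨⟨a, rfl⟩, ha⟩
    refine hE J hJ (mem_map_of_mem _ ((Q_cent2 a).resolve_right ?_))
    rintro ⟨b, hb, n1, n2⟩
    have h3 : ⁅(π.comp φ) a, (π.comp φ) b⁆ ∈ (π.comp φ).range ⊓ O ⊤ :=
      ⟨⟨⁅a, b⁆, map_commutatorElement _ a b⟩,
        h1 (commutator_mem_commutator ha (mem_map_of_mem _ hb))⟩
    rw [H49.inf_eq_bot_of_coprime (cop_two (h.syl'.pi.isPGroup Nat.prime_two) (od_O _)), mem_bot,
      commutatorElement_eq_one_iff_mul_comm, ← map_mul, ← map_mul] at h3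
    exact (h.lift_eq h3).elim (fun e => n1 (h.inj e)) fun e => n2 (h.inj e)
  nth_rewrite 1 [← hJ.pqs.gen]
  refine H44.pGen_le_iff.2 fun P h3 h4 => ?_
  obtain ⟨l, hl, h5⟩ := sylowOf_Jsub hS (h3.trans hJ.le_Lof) (isPi_of_isPGroup Nat.prime_two h4)
  exact h5.trans (cj_le_of_mem_norm h2 (norm_le_norm_CO J (hJ.Lof_le_normalizer hl)))

omit [Finite K] in
theorem normal' (hO : O (⊤ : Subgroup X) = ⊥) : (Q0.map (π.comp φ)).Normal := by
  have h1 : Kof (Q0.map (π.comp φ)) ⊤ ≤ Q0.map (π.comp φ) :=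
    (str h.sc' h.ea).K_le.trans (sup_le (sup_le le_rfl
      (sSup_le fun J hJ => absurd hJ (h.not_ac J))) (hO.le.trans bot_le))
  exact normal_iff_top_le_norm.2 fun g hg => mem_norm_of_cj_le ((cj_le_Kof hg).trans h1)

end Co

end Cfsg.Agent.U52
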