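/-
Quotients by a central involution: components, cores, and the `Z*`-theorem.
-/
import Cfsg.Agent.GOLD.Basic
import Cfsg.Agent.H76.SelfCent
import Cfsg.Agent.H78.ZStarQ
import Cfsg.Agent.H50.Omega
import Cfsg.Agent.H21.Quad
import Cfsg.Agent.U52.Fus

set_option autoImplicit false

namespace Cfsg.Agent.U52

open Subgroup Cfsg.Agent.H49 Cfsg.Agent.GOLD
open scoped commutatorElement

universe u

variable {K X : Type u} [Group K] [Finite K] [Group X] [Finite X] {π : K →* X} {y : K}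

theorem exists_quot (hy : y * y = 1) (hc : ∀ g, g * y = y * g) :
    ∃ (X : Type u) (_ : Group X) (_ : Finite X) (π : K →* X), Function.Surjective π ∧
      ∀ s t, π s = π t ↔ s = t ∨ s = y * t := by
  have hZ : (zpowers y).Normal := normal_iff_top_le_norm.2 fun g _ =>
    centralizer_le_normalizer _ (by rw [cent_zpowers]; exact mem_cent1.2 (hc g))
  exact ⟨_, _, inferInstance, QuotientGroup.mk' (zpowers y), QuotientGroup.mk'_surjective _,
    fun s t => by
      rw [← mul_inv_eq_one, ← map_inv, ← map_mul, ← MonoidHom.mem_ker, QuotientGroup.ker_mk',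
        H78.mem_zpowers_inv hy, mul_inv_eq_one, mul_inv_eq_iff_eq_mul]⟩

omit [Finite K] [Finite X] in
theorem ker_eq (hy : y * y = 1) (hπ : ∀ s t, π s = π t ↔ s = t ∨ s = y * t) :
    π.ker = zpowers y := by
  ext s
  rw [MonoidHom.mem_ker, ← map_one π, hπ, H78.mem_zpowers_inv hy, mul_one]

theorem pcomp_map (hy : y * y = 1) (hs : Function.Surjective π)
    (hπ : ∀ s t, π s = π t ↔ s = t ∨ s = y * t) {J : Subgroup K} (hJ : H44.PComp 2 ⊤ J) :
    H44.PComp 2 ⊤ (J.map π) := by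
  have : Fact (Nat.Prime 2) := ⟨Nat.prime_two⟩
  rw [← map_top_of_surjective _ hs]
  refine hJ.map π fun e => hJ.pqs.not_le_solvable
    (H46.isSolvable_of_isPGroup ((pi_zp hy).isPGroup Nat.prime_two)) ?_
  rwa [Subgroup.map_eq_bot_iff, ker_eq hy hπ] at e

theorem lof_of_quot (hy : y * y = 1) (hs : Function.Surjective π)
    (hπ : ∀ s t, π s = π t ↔ s = t ∨ s = y * t) (h : H44.Lof 2 (⊤ : Subgroup X) = ⊥) :
    H44.Lof 2 (⊤ : Subgroup K) = ⊥ :=
  haveI : Fact (Nat.Prime 2) := ⟨Nat.prime_two⟩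
  H44.Lof_eq_bot_iff.2 fun _ hJ => H44.Lof_eq_bot_iff.1 h _ (pcomp_map hy hs hπ hJ)

theorem cent_two (hO : O (⊤ : Subgroup K) = ⊥) (hy : y * y = 1) (hc : ∀ g, g * y = y * g)
    {Y : Subgroup K} (hY : Y.Normal) (hP : IsSylowOf 2 (zpowers y) Y) : zpowers y = Y := by
  obtain ⟨L, h1, h2, h3, h4⟩ := H76.exists_compl_of_burnside Nat.prime_two hP
    (fun g _ => by rw [cent_zpowers]; exact mem_cent1.2 (hc g))
  have h5 : L ≤ ⊥ := hO ▸ (H44.le_pPrimeCoreOf h1 h2 (H44.coprime_iff_not_dvd.2 h4)).trans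
    (H44.pPrimeCoreOf_le_pPrimeCoreOf_of_le_normalizer le_top (normal_iff_top_le_norm.1 hY))
  rw [le_bot_iff.1 h5, card_bot, one_mul] at h3
  exact eq_of_le_of_card_eq hP.le h3

theorem od_of_quot (hy : y * y = 1) (hc : ∀ g, g * y = y * g) (hs : Function.Surjective π)
    (hπ : ∀ s t, π s = π t ↔ s = t ∨ s = y * t) (hO : O (⊤ : Subgroup K) = ⊥) :
    O (⊤ : Subgroup X) = ⊥ := by
  have h1 : (O (⊤ : Subgroup X)).Normal :=
    normal_iff_top_le_norm.2 (H44.le_normalizer_pPrimeCoreOf _)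
  have h2 := cent_two hO hy hc (h1.comap π) (hall_mk
    (by rw [← ker_eq hy hπ]; exact ker_le_comap _ _) (pi_zp hy) (by
      rw [← ker_eq hy hπ, relIndex_ker, map_comap_eq_self_of_surjective hs,
        isPiNat_compl_singleton_iff_coprime Nat.prime_two]
      exact od_O _))
  rw [← map_comap_eq_self_of_surjective hs (O ⊤), ← h2, Subgroup.map_eq_bot_iff, ker_eq hy hπ]

/-- the `Z*`-theorem modulo a central involution -/
theorem lof_of_zstar (hy : y * y = 1) (hc : ∀ g, g * y = y * g) {S : Subgroup K}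
    (hS : IsSylowOf 2 S ⊤) (hyS : y ∈ S) {d : K} (hd : d ∈ S) (d2 : d * d = 1) (d1 : d ≠ 1)
    (dy : d ≠ y) (hiso : ∀ g, g * d * g⁻¹ ∈ S → g * d * g⁻¹ = d ∨ g * d * g⁻¹ = y * d)
    (hL : H44.Lof 2 𝒞[d] = ⊥) : H44.Lof 2 (⊤ : Subgroup K) = ⊥ := by
  have : Fact (Nat.Prime 2) := ⟨Nat.prime_two⟩
  obtain ⟨X, _, _, π, hs, hπ⟩ := exists_quot hy hc
  have h1 := hS.map π
  rw [map_top_of_surjective _ hs] at h1
  obtain ⟨P, hP⟩ := exists_sylow_of_top Nat.prime_two h1
  have e2 : π d * π d = 1 := by rw [← map_mul, d2, map_one]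
  obtain ⟨N, hN, ho, h2⟩ := S0215.result P (π d) (orderOf_eq_prime (by rw [pow_two, e2])
    fun e => by rw [← map_one π, hπ, mul_one] at e; exact e.elim d1 dy)
    (show π d ∈ (P : Subgroup X) from hP ▸ mem_map_of_mem π hd) fun g hg => by
      obtain ⟨g, rfl⟩ := hs g
      obtain ⟨s, h3, e⟩ : π g * π d * (π g)⁻¹ ∈ S.map π := hP ▸ hg
      rw [← map_inv, ← map_mul, ← map_mul] at e ⊢
      refine (hπ _ _).2 (hiso g ?_)
      rcases (hπ _ _).1 e.symm with e | e <;> rw [e]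
      exacts [h3, mul_mem hyS h3]
  have hn := normal_iff_top_le_norm.1 hN
  have h3 : (N ⊔ zpowers (π d)).Normal := normal_iff_top_le_norm.2 fun g hg =>
    mem_norm_of_cj_le (by
      rw [cj_sup, cj_eq_of_mem_norm (hn hg), cj_zpowers]
      refine sup_le le_sup_left (zpowers_le.2 ?_)
      rw [show g * π d * g⁻¹ = (π d * g * (π d)⁻¹ * g⁻¹)⁻¹ * π d by group]
      exact mul_mem (mem_sup_left (inv_mem (h2 g))) (mem_sup_right (mem_zpowers _)))
  refine H44.Lof_eq_bot_iff.2 fun J hJ => ?_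
  rcases hJ.le_or_commutator_le_of_le_normalizer le_top
    (le_top.trans (normal_iff_top_le_norm.1 (h3.comap π))) with h4 | h4
  · have h5 := (pcomp_map hy hs hπ hJ).pqs
    exact h5.not_le_of_coprime (Nat.coprime_two_right.2 ho) (H46.le_of_perfect_of_le_sup h5.perfect
      (le_top.trans hn) (H46.isSolvable_of_isPGroup ((pi_zp e2).isPGroup Nat.prime_two))
      (map_le_iff_le_comap.2 h4))
  · have h5 : ⁅J, zpowers d⁆ ≤ O ⊤ := (commutator_mono le_rfl
      (zpowers_le.2 (mem_comap.2 (mem_sup_right (mem_zpowers _))))).trans h4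
    have h6 : zpowers d ≤ 𝒩((⊤ : Subgroup K)) := le_top.trans le_normalizer
    have h7 := (H46.pcomp_inf_centralizer hJ ((pi_zp d2).isPGroup Nat.prime_two)
      (hJ.le_normalizer_of_commutator_le h6 h5) (hJ.commutator_le_Oppof h6 h5)).1
    rw [top_inf_eq, cent_zpowers] at h7
    exact H44.Lof_eq_bot_iff.1 hL _ h7

theorem lof_sub {H : Subgroup K} (M : Subgroup H) :
    H44.Lof 2 (M.map H.subtype) = ⊥ ↔ H44.Lof 2 M = ⊥ := by
  have : Fact (Nat.Prime 2) := ⟨Nat.prime_two⟩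
  rw [← H44.map_Lof_inj _ H.subtype_injective, map_eq_bot_iff_of_injective _ H.subtype_injective]

theorem lof_cj {x : K} (g : K) (h : H44.Lof 2 𝒞[x] = ⊥) : H44.Lof 2 𝒞[g * x * g⁻¹] = ⊥ := by
  have : Fact (Nat.Prime 2) := ⟨Nat.prime_two⟩
  rw [← cj_cent1, cj_def, ← H44.map_Lof_inj _ (MulAut.conj g).injective, h, Subgroup.map_bot]

theorem exists_eight {b : T0} (hb : b * b = 1) :
    ∃ A : Subgroup T0, IsElementaryAbelian 2 A ∧ 2 ^ 2 < Nat.card A ∧ A ≤ 𝒞[b] := by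
  obtain ⟨y, ⟨y2, yb, y1, yz⟩, u, u2, ub, uy, u1, uz, n1, n2⟩ := fact6 b hb
  have e : ∀ {x : T0}, x * x = 1 → IsElementaryAbelian 2 (zpowers x) := fun hx =>
    H21.isElementaryAbelian_zpowers (by rwa [pow_two])
  have c : ∀ {s t : T0}, s * t = t * s → zpowers s ≤ 𝒞(zpowers t) := fun h => by
    rw [cent_zpowers]; exact zpowers_le.2 (mem_cent1.2 h)
  refine ⟨zpowers z0 ⊔ zpowers y ⊔ zpowers u, H21.isElementaryAbelian_sup
    (H21.isElementaryAbelian_sup (e misc.1) (e y2) (c (z_cen y).symm)) (e u2)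
    (sup_le (c (z_cen u).symm) (c uy.symm)), ?_, sup_le (sup_le
      (zpowers_le.2 (mem_cent1.2 (z_cen b).symm)) (zpowers_le.2 (mem_cent1.2 yb)))
      (zpowers_le.2 (mem_cent1.2 ub))⟩
  have m1 : z0 ∈ zpowers z0 ⊔ zpowers y ⊔ zpowers u := mem_sup_left (mem_sup_left (mem_zpowers _))
  have m2 : y ∈ zpowers z0 ⊔ zpowers y ⊔ zpowers u := mem_sup_left (mem_sup_right (mem_zpowers _))
  have h5 : ({u, z0 * y, y, z0, 1} : Set T0).ncard = 5 := by
    have n3 : z0 * y ≠ 1 := fun e => yz (by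
      rw [← inv_eq_of_mul_eq_one_right e, inv_eq_of_mul_eq_one_right misc.1])
    rw [Set.ncard_insert_of_notMem (by simp [*]), Set.ncard_insert_of_notMem
      (by simp [y1, n3, misc.2.1]), Set.ncard_insert_of_notMem (by simp [*]),
      Set.ncard_pair misc.2.1]
  have h6 := Set.ncard_le_ncard (show ({u, z0 * y, y, z0, 1} : Set T0) ⊆
    (zpowers z0 ⊔ zpowers y ⊔ zpowers u : Subgroup T0) by
      rintro x (rfl | rfl | rfl | rfl | rfl)
      exacts [mem_sup_right (mem_zpowers _), mul_mem m1 m2, m2, m1, one_mem _]) (Set.toFinite _)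
  rw [h5] at h6
  exact h6

end Cfsg.Agent.U52
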