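/-
The model is a Sylow 2-subgroup of `U₅(2)`.
-/
import Cfsg.Agent.U52.Model
import Cfsg.Agent.H95.Pack
import Cfsg.Agent.H10.UTrans
import Cfsg.Agent.H10.Isotropic
import Cfsg.Agent.H29.Transport

set_option autoImplicit false

noncomputable section

namespace Cfsg.Agent.U52

open Subgroup H29 H29.F4 T0 Matrix

/-- the form -/
def mJ : Matrix (Fin 5) (Fin 5) F4 :=
  !![0, 0, 0, 0, 1; 0, 0, 0, 1, 0; 0, 0, 1, 0, 0; 0, 1, 0, 0, 0; 1, 0, 0, 0, 0]
/-- an orthonormal basis -/
def mP : Matrix (Fin 5) (Fin 5) F4 :=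
  !![i, i, o, o, o; o, o, i, i, o; o, o, o, o, i; o, o, w, v, o; w, v, o, o, o]
/-- the inverse matrix -/
def mP' : Matrix (Fin 5) (Fin 5) F4 :=
  !![v, o, o, o, i; w, o, o, o, i; o, v, o, i, o; o, w, o, i, o; o, o, i, o, o]

theorem cj_eq : ⇑(H10.cj F4 2) = fs := funext fun a => by
  rw [H10.cj_apply]; revert a; decide +kernel

theorem mP_facts : mP * mP' = 1 ∧ mP' * mP = 1 ∧ mP'ᵀ * mP'.map fs = mJ ∧
    mPᵀ * mJ * mP.map fs = 1 := by decide +kernel

theorem mat_one : mat 1 = 1 := by decide +kernel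

theorem fs_zero : fs 0 = 0 := rfl
theorem fs_one : fs 1 = 1 := rfl

theorem mat_isom (x : T0) : (mat x)ᵀ * mJ * (mat x).map fs = mJ := by
  have := two
  ext i j
  fin_cases i <;> fin_cases j <;>
    simp [mat, mJ, Matrix.mul_apply, Fin.sum_univ_five, fs_zero, fs_one, fs_fs, fs_D] <;>
    (try simp only [V, U, fs_add, fs_mul, fs_fs, fs_F]) <;> grind

theorem mat_det (x : T0) : (mat x).det = 1 := by
  rw [det_of_upperTriangular]
  · simp [mat, Fin.prod_univ_five]
  · intro i j h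
    fin_cases i <;> fin_cases j <;> simp_all [mat]

/-- the embedding in `SU₅(2)` -/
def toSU : T0 →* SU 5 F4 2 := MonoidHom.mk' (fun x => H10.mkSU (mP' * mat x * mP)
  ((H10.isIsom_iff _).2 (by
    rw [Matrix.map_mul, Matrix.map_mul, cj_eq, transpose_mul, transpose_mul]
    calc _ = mPᵀ * ((mat x)ᵀ * (mP'ᵀ * mP'.map fs) * (mat x).map fs) * mP.map fs := by
          simp only [Matrix.mul_assoc]
      _ = 1 := by rw [mP_facts.2.2.1, mat_isom, mP_facts.2.2.2]))
  (by rw [det_mul, det_mul, mat_det, mul_one, ← det_mul, mP_facts.2.1, det_one]))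
  fun x y => Subtype.ext (Subtype.ext (by
    change mP' * mat (x * y) * mP = mP' * mat x * mP * (mP' * mat y * mP)
    rw [mat_mul]
    calc _ = mP' * mat x * (mP * mP') * mat y * mP := by
          rw [mP_facts.1, Matrix.mul_one]; simp only [Matrix.mul_assoc]
      _ = _ := by simp only [Matrix.mul_assoc]))

theorem toSU_inj : Function.Injective toSU := fun x y h => mat_inj (by
  have h1 : mP' * mat x * mP = mP' * mat y * mP := congrArg (fun g : SU 5 F4 2 => g.1.1) h
  have h2 : ∀ M : Matrix (Fin 5) (Fin 5) F4, mP * (mP' * M * mP) * mP' = M := fun M => by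
    calc _ = mP * mP' * M * (mP * mP') := by simp only [Matrix.mul_assoc]
      _ = M := by rw [mP_facts.1, Matrix.mul_one, Matrix.one_mul]
  rw [← h2 (mat x), h1, h2])

theorem card_SU : Nat.card (SU 5 F4 2) = 13685760 := by
  have := H10.card_SUG_mul (F := F4) (q := 2) (n := 5) (by norm_num)
  rw [show (2 ^ (5 * (5 - 1) / 2) * ∏ i ∈ Finset.range 5,
    if Even i then 2 ^ (i + 1) + 1 else 2 ^ (i + 1) - 1) = 41057280 by decide +kernel,
    H10.card_SUG] at this
  omega

theorem exists_equiv {F : Type*} [Field F] [Fintype F] (hF : Fintype.card F = 4)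
    (P : Sylow 2 (PSU 5 F 2)) : Nonempty (T0 ≃* P) ∧ Nonempty (PSU 5 F4 2 ≃* PSU 5 F 2) := by
  have : Fact (Nat.Prime 2) := ⟨Nat.prime_two⟩
  let e : PSU 5 F4 2 ≃* PSU 5 F 2 :=
    psuEquiv 5 2 (FiniteField.ringEquivOfCardEq (F4.card_eq.trans hF.symm))
  have hZ : center (SU 5 F4 2) = ⊥ :=
    card_eq_one.1 (H10.card_center_SU (F := F4) (q := 2) (n := 5) (by norm_num))
  have hc : Nat.card (PSU 5 F 2) = 13685760 := by
    have := H10.card_PSU_mul (F := F4) (q := 2) (n := 5) (by norm_num)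
    rw [card_SU] at this
    rw [← Nat.card_congr e.toEquiv, ← this]; simp
  have : Finite (PSU 5 F 2) := Nat.finite_of_card_ne_zero (by rw [hc]; norm_num)
  let ρ : T0 →* PSU 5 F 2 := e.toMonoidHom.comp ((QuotientGroup.mk' _).comp toSU)
  have hρ : Function.Injective ρ := e.injective.comp
    (((QuotientGroup.mk' _).ker_eq_bot_iff.1 (by rw [QuotientGroup.ker_mk', hZ])).comp toSU_inj)
  have h1 : Nat.card ρ.range = 2 ^ 10 := by
    rw [← Nat.card_congr (MonoidHom.ofInjective hρ).toEquiv, T0.card_eq]; rfl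
  have h2 := ρ.range.card_mul_index
  rw [h1, hc] at h2
  let S : Sylow 2 (PSU 5 F 2) := (IsPGroup.of_card h1).toSylow (by omega)
  exact ⟨⟨(MonoidHom.ofInjective hρ).trans (S.equiv P)⟩, ⟨e⟩⟩

end Cfsg.Agent.U52
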